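import Cfsg.Agent.H93.TwoEssential.WreathedModels
import Cfsg.Agent.H93.TwoEssential.ModelsSD
import Cfsg.Agent.H6.Basic

/-!
Model groups `PSL₂(q)` and `PSL₃(q)` with dihedral, semidihedral and wreathed Sylow 2-subgroups and all
candidates fused.
-/

set_option autoImplicit false

universe v

namespace Cfsg.Agent.H20.RankTwo

open Matrix Subgroup Cfsg Cfsg.FusionSystem Cfsg.Agent Cfsg.Agent.H93.TwoEss
open Cfsg.Agent.H49 Cfsg.Agent.H49.ZTwo Cfsg.Agent.H49.Wr

/-- Semidihedral groups: both classes fused (`SL₃(q)`). -/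
theorem exists_sl3SD (n : ℕ) (hn : 3 ≤ n) :
    ∃ (q : ℕ) (_ : Fact q.Prime) (X Y : SpecialLinearGroup (Fin 3) (ZMod q)), Odd q ∧
      MCGroup n (2 ^ (n - 1) - 1) 0 X Y ∧
      IsConj (X ^ 2 ^ (n - 1)) Y ∧ IsConj (X ^ 2 ^ (n - 2)) (X * Y) := by
  obtain ⟨q, hq, t, hq2, hns, hG, hz, hc⟩ := exists_sdGL n hn
  let e := H58.PSLThree.emb (F := ZMod q)
  have hi : Function.Injective e := fun A B h => by
    refine Units.ext ?_
    have h' := congrArg Subtype.val h
    ext i j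
    fin_cases i <;> fin_cases j
    · exact congrFun (congrFun h' 0) 0
    · exact congrFun (congrFun h' 0) 1
    · exact congrFun (congrFun h' 1) 0
    · exact congrFun (congrFun h' 1) 1
  have ho : orderOf (e (compG t)) = 2 ^ n := by rw [orderOf_injective e hi, hG.order]
  have hrel : e (compS t) * e (compG t) * (e (compS t))⁻¹ = e (compG t) ^ (2 ^ (n - 1) - 1) := by
    rw [← map_inv, ← map_mul, ← map_mul, hG.rel, map_pow]
  refine ⟨q, hq, e (compG t), e (compS t), (Fact.out : q.Prime).eq_two_or_odd'.resolve_left hq2,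
    ⟨ho, by rw [← map_mul, hG.y_sq, map_pow], hrel,
      not_mem_of_rel (by omega) ho (Or.inr ⟨hn, Nat.sub_add_cancel Nat.one_le_two_pow⟩) hrel, ?_⟩, ?_,
    by rw [← map_pow, ← map_mul]; exact e.map_isConj hc⟩
  · rw [card_SL_three, Nat.card_zmod, Nat.factorization_mul Nat.card_pos.ne' (mul_ne_zero (pow_ne_zero _ (Fact.out : q.Prime).ne_zero) (Nat.succ_ne_zero _)), Finsupp.add_apply,
      hG.v_two, factorization_two_pow (k := 0) (m := q ^ 2 * (q ^ 2 + q + 1)) (by simp)]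
    have ho : Odd q := (Fact.out : q.Prime).eq_two_or_odd'.resolve_left hq2
    exact ho.pow.mul ((ho.pow.add_odd ho).add_one)
  · -- the two involutions are diagonalisable with the same eigenvalues
    let D : GL (Fin 2) (ZMod q) := GeneralLinearGroup.mkOfDetNeZero !![1, 0; 0, -1] (by simp [det_fin_two])
    have hD : (D : Matrix (Fin 2) (Fin 2) (ZMod q)) = !![1, 0; 0, -1] := rfl
    have hnsc : ∀ c : ZMod q, ¬ H69.IsScalar2 !![1, 0; c, -1] := fun c h =>
      neg_one_ne_one' (two_ne_zero_zmod hq2) (by simpa using h.2.2.symm)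
    have h1 : IsConj (compS t) D := H69.gl2_isConj_of_trace_det (compS_val t ▸ hnsc t) (hD ▸ hnsc 0)
      (by rw [compS_val, hD]; simp [trace_fin_two]) (by rw [compS_val, hD]; simp [det_fin_two])
    let c : SpecialLinearGroup (Fin 3) (ZMod q) :=
      ⟨!![0, 0, 1; 1, 0, 0; 0, 1, 0], by simp [det_fin_three]⟩
    refine (IsConj.trans (isConj_iff.2 ⟨c, ?_⟩) (e.map_isConj h1).symm)
    rw [mul_inv_eq_iff_eq_mul, ← map_pow]
    refine Subtype.ext ?_
    show c.1 * (e (compG t ^ 2 ^ (n - 1))).1 = (e D).1 * c.1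
    show !![0, 0, 1; 1, 0, 0; 0, 1, 0] * H58.PSLThree.blkMat
        ((compG t ^ 2 ^ (n - 1) : GL (Fin 2) (ZMod q)) : Matrix (Fin 2) (Fin 2) (ZMod q)) _ =
      H58.PSLThree.blkMat (D : Matrix (Fin 2) (Fin 2) (ZMod q)) _ * !![0, 0, 1; 1, 0, 0; 0, 1, 0]
    rw [hz, hD]
    ext i j
    fin_cases i <;> fin_cases j <;>
      simp [H58.PSLThree.blkMat, Matrix.mul_apply, Fin.sum_univ_three, det_fin_two]

/-- `SL₃(q)` with wreathed Sylow 2-subgroups. -/
theorem exists_sl3Wr (k : ℕ) :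
    ∃ (q : ℕ) (_ : Fact q.Prime) (f : Wr k →* SpecialLinearGroup (Fin 3) (ZMod q)), Odd q ∧
      WrGroup f ∧ (∃ i j, IsConj (f (R i j)) (f (W 0 0))) ∧
        ∃ g, g * f (R 1 0) * g⁻¹ = f (R 0 1) ∧ g * f (R 0 1) * g⁻¹ = f (R (-1) (-1)) := by
  obtain ⟨q, u, hq, hu, hqe⟩ := exists_prime_sub (k + 1 + 1) (by omega)
  have : Fact q.Prime := ⟨hq⟩
  have hN : (2 : ℕ) ∣ 2 ^ (k + 1 + 1) := dvd_pow_self 2 (by omega)
  have hq2 : q ≠ 2 := fun h => by
    have : 2 ∣ 2 ^ (k + 1 + 1) * u := hN.mul_right u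
    omega
  obtain ⟨l, hl⟩ := exists_unit_order (F := ZMod q) (n := k + 1 + 1) (by rw [Nat.card_zmod, hqe]; simp)
  have hl' : l ^ 2 ^ (k + 1 + 1) = 1 := hl ▸ pow_orderOf_eq_one l
  have hh : l ^ 2 ^ (k + 1) = -1 := pow_half (n := k + 1 + 1) (by omega) hl
  have hlp : ∀ a : ℕ, l ^ a = 1 ↔ 2 ^ (k + 1 + 1) ∣ a := fun a => by rw [← orderOf_dvd_iff_pow_eq_one, hl]
  -- in GL₂
  obtain ⟨f, fX, fY, fZ, hf⟩ := exists_wrHom (k := k) (X := gDiag l 1) (Y := gDiag 1 l) (Z := gW)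
    (by rw [gDiag_pow, hl', one_pow]; exact map_one (gDiagHom (F := ZMod q)))
    (by show _ * _ = _ * _; rw [gDiag_mul, gDiag_mul, mul_comm l, mul_comm (1 : (ZMod q)ˣ) l])
    gW_sq (gW_conj l 1)
  have hfR : ∀ a b, f (R a b) = gDiag (l ^ a.val) (l ^ b.val) := fun a b => by
    rw [(hf a b).1, zpw, zpw, gDiag_pow, gDiag_pow, gDiag_mul, one_pow, one_pow, mul_one, one_mul]
  have hfinj : Function.Injective f := by
    rw [injective_iff_map_eq_one]
    intro x hx
    rcases cases_RW x with ⟨a, b, rfl⟩ | ⟨a, b, rfl⟩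
    · rw [hfR, ← map_one (gDiagHom (F := ZMod q))] at hx
      obtain ⟨h1, h2⟩ := gDiag_inj hx
      replace h1 : l ^ a.val = 1 := h1
      replace h2 : l ^ b.val = 1 := h2
      rw [hlp, ← ZMod.natCast_eq_zero_iff, ZMod.natCast_zmod_val] at h1 h2
      rw [h1, h2, Wr.one_eq]
    · exfalso
      rw [(hf a b).2, zpw, zpw, gDiag_pow, gDiag_pow, gDiag_mul] at hx
      have h' := congrArg (fun g : GL (Fin 2) (ZMod q) => (g : Matrix (Fin 2) (Fin 2) (ZMod q)) 0 0) hx
      simp [gDiag, gW, GeneralLinearGroup.val_mkOfDetNeZero] at h'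
  have hwit : IsConj (f (R 0 (half (k + 1)))) (f (W 0 0)) := by
    rw [hfR, fZ]
    have hhv : (half (k + 1)).val = 2 ^ (k + 1) := by
      rw [half, ZMod.val_natCast, Nat.mod_eq_of_lt (Nat.pow_lt_pow_right one_lt_two (by omega))]
    rw [hhv, hh, ZMod.val_zero, pow_zero]
    have h2 := two_ne_zero_zmod hq2
    refine H69.gl2_isConj_of_trace_det ?_ ?_ ?_ ?_
    · rintro ⟨-, -, h⟩
      simp [gDiag, GeneralLinearGroup.val_mkOfDetNeZero] at h
      exact neg_one_ne_one' h2 h.symm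
    · rintro ⟨h, -, -⟩
      simp [gW, GeneralLinearGroup.val_mkOfDetNeZero] at h
    · simp [gDiag, gW, GeneralLinearGroup.val_mkOfDetNeZero, trace_fin_two]
    · simp [gDiag, gW, GeneralLinearGroup.val_mkOfDetNeZero, det_fin_two]
  have hvGL : (Nat.card (GL (Fin 2) (ZMod q))).factorization 2 = 2 * (k + 2) + 1 := by
    refine factorization_two_pow (m := q * u * u * (2 ^ (k + 1) * u + 1)) ?_ ?_
    · rw [card_GL_two, Nat.card_zmod, show q - 1 = 2 ^ (k + 1 + 1) * u by omega,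
        show q + 1 = 2 * (2 ^ (k + 1) * u + 1) by rw [hqe]; ring]
      ring
    · refine (((hq.eq_two_or_odd'.resolve_left hq2).mul hu).mul hu).mul ?_
      exact (((Even.pow_of_ne_zero even_two (by omega : k + 1 ≠ 0))).mul_right u).add_one
  let e₃ := H58.PSLThree.emb (F := ZMod q)
  let tri : (ZMod q)ˣ → (ZMod q)ˣ → SpecialLinearGroup (Fin 3) (ZMod q) := fun a b => e₃ (gDiag a b)
  have htmul : ∀ a b c d, tri a b * tri c d = tri (a * c) (b * d) := fun a b c d => by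
    show e₃ _ * e₃ _ = e₃ _
    rw [← map_mul, gDiag_mul]
  have htpow : ∀ a b (m : ℕ), tri a b ^ m = tri (a ^ m) (b ^ m) := fun a b m => by
    show e₃ _ ^ m = e₃ _
    rw [← map_pow, gDiag_pow]
  set m2 : (ZMod q)ˣ := (l⁻¹) ^ 2 with hm2
  obtain ⟨F₃, FX, FY, FZ, hF⟩ := exists_wrHom (k := k) (X := tri m2 l) (Y := tri l m2) (Z := e₃ gW)
    (by
      rw [htpow, hm2, ← pow_mul, mul_comm, pow_mul, inv_pow, hl', inv_one, one_pow]
      exact (congrArg e₃ (map_one (gDiagHom (F := ZMod q)))).trans (map_one e₃))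
    (by show _ * _ = _ * _; rw [htmul, htmul, mul_comm l m2])
    (by rw [← map_mul, gW_sq, map_one])
    (by show e₃ gW * e₃ _ * (e₃ gW)⁻¹ = e₃ _; rw [← map_inv, ← map_mul, ← map_mul, gW_conj])
  have hFR : ∀ a b, F₃ (R a b) = tri (m2 ^ a.val * l ^ b.val) (l ^ a.val * m2 ^ b.val) := fun a b => by
    rw [(hF a b).1, zpw, zpw, htpow, htpow, htmul]
  have he₃ : Function.Injective e₃ := fun A B h => by
    refine Units.ext ?_
    have h' := congrArg Subtype.val h
    ext i j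
    fin_cases i <;> fin_cases j
    · exact congrFun (congrFun h' 0) 0
    · exact congrFun (congrFun h' 0) 1
    · exact congrFun (congrFun h' 1) 0
    · exact congrFun (congrFun h' 1) 1
  have hthree : IsUnit (3 : ZMod (2 ^ (k + 1 + 1))) := by
    exact_mod_cast odd_cast_unit (k := k + 1 + 1) (a := 3) (by decide)
  have hFinj : Function.Injective F₃ := by
    rw [injective_iff_map_eq_one]
    intro x hx
    rcases cases_RW x with ⟨a, b, rfl⟩ | ⟨a, b, rfl⟩
    · rw [hFR, ← map_one e₃, ← map_one (gDiagHom (F := ZMod q))] at hx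
      obtain ⟨h1, h2⟩ := gDiag_inj (he₃ hx)
      have key : ∀ i j : ℕ, m2 ^ i * l ^ j = 1 → ((j : ZMod (2 ^ (k + 1 + 1))) = 2 * i) := by
        intro i j h
        have h' : l ^ j = l ^ (2 * i) := by
          rw [hm2, ← pow_mul, inv_pow, inv_mul_eq_one] at h
          exact h.symm
        rw [pow_eq_pow_iff_modEq, hl, ← ZMod.natCast_eq_natCast_iff] at h'
        rw [h']; push_cast; ring
      have k1 := key _ _ h1
      have k2 := key b.val a.val (by rw [mul_comm]; exact h2)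
      rw [ZMod.natCast_zmod_val, ZMod.natCast_zmod_val] at k1 k2
      have ha : 3 * a = 0 := by linear_combination -k2 - 2 * k1
      rw [hthree.mul_right_eq_zero] at ha
      rw [ha, mul_zero] at k1
      rw [ha, k1, Wr.one_eq]
    · exfalso
      rw [(hF a b).2, zpw, zpw, htpow, htpow, htmul] at hx
      have hx' : e₃ (gDiag (m2 ^ a.val * l ^ b.val) (l ^ a.val * m2 ^ b.val) * gW) = 1 := by
        rw [map_mul]; exact hx
      rw [map_eq_one_iff e₃ he₃] at hx'
      have h' := congrArg (fun g : GL (Fin 2) (ZMod q) => (g : Matrix (Fin 2) (Fin 2) (ZMod q)) 0 0) hx'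
      simp [gDiag, gW, GeneralLinearGroup.val_mkOfDetNeZero] at h'
  let P : SpecialLinearGroup (Fin 3) (ZMod q) := cycP
  have hPconj : ∀ a b : (ZMod q)ˣ, P * tri a b * P⁻¹ = tri (a * b)⁻¹ a := cycP_conj
  have hl1 : (l : (ZMod q)ˣ) ^ (1 : ZMod (2 ^ (k + 1 + 1))).val = l := by
    have : Fact (1 < 2 ^ (k + 1 + 1)) := ⟨Nat.one_lt_two_pow (by omega)⟩
    rw [ZMod.val_one, pow_one]
  refine ⟨q, inferInstance, F₃, hq.eq_two_or_odd'.resolve_left hq2, ⟨hFinj, ?_⟩, ?_, P, ?_, ?_⟩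
  · rw [card_SL_three, Nat.card_zmod, Nat.factorization_mul Nat.card_pos.ne'
      (mul_ne_zero (pow_ne_zero _ hq.ne_zero) (Nat.succ_ne_zero _)), Finsupp.add_apply, hvGL,
      factorization_two_pow (k := 0) (m := q ^ 2 * (q ^ 2 + q + 1)) (by simp)]
    have ho : Odd q := hq.eq_two_or_odd'.resolve_left hq2
    exact ho.pow.mul ((ho.pow.add_odd ho).add_one)
  · refine ⟨half (k + 1), 0, ?_⟩
    have h1 : f (W 0 0) = gW := fZ
    have hhv : (half (k + 1)).val = 2 ^ (k + 1) := by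
      rw [half, ZMod.val_natCast, Nat.mod_eq_of_lt (Nat.pow_lt_pow_right one_lt_two (by omega))]
    have hA : F₃ (R (half (k + 1)) 0) = tri 1 (-1) := by
      rw [hFR, hhv, ZMod.val_zero, pow_zero, pow_zero, mul_one, mul_one, hh, hm2, ← pow_mul, mul_comm,
        pow_mul, inv_pow, hh]
      simp
    rw [hA, FZ]
    have h2 := hwit
    rw [hfR, h1, hhv, hh, ZMod.val_zero, pow_zero] at h2
    exact e₃.map_isConj h2
  · rw [FX, FY, hPconj]
    congr 1
    rw [hm2, pow_two, mul_assoc, inv_mul_cancel, mul_one, inv_inv]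
  · rw [FY, hPconj, show (R (-1) (-1) : Wr k) = (R 1 0 * R 0 1)⁻¹ by rw [R_mul_R, R_inv, add_zero, zero_add],
      map_inv, map_mul, FX, FY, htmul]
    show e₃ (gDiag _ _) = (e₃ (gDiag _ _))⁻¹
    rw [← map_inv]
    congr 1
    rw [show (gDiag (m2 * l) (l * m2))⁻¹ = gDiag (m2 * l)⁻¹ (l * m2)⁻¹ from
      (map_inv (gDiagHom (F := ZMod q)) (m2 * l, l * m2)).symm, mul_comm l m2]
    congr 1
    rw [hm2, pow_two, mul_assoc, inv_mul_cancel, mul_one, inv_inv]


section quotient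

variable {G H : Type v} [Group G] [Group H] (π : G →* H) (hker : ∀ z, π z = 1 → z ^ 3 = 1)
include hker

theorem eq_one_of_two_pow {z : G} (hz : π z = 1) {m : ℕ} (h2 : z ^ 2 ^ m = 1) : z = 1 := by
  have h := Nat.dvd_gcd (orderOf_dvd_of_pow_eq_one (hker z hz)) (orderOf_dvd_of_pow_eq_one h2)
  rw [(Nat.Coprime.pow_right m (by norm_num : Nat.Coprime 3 2)).gcd_eq_one, Nat.dvd_one,
    orderOf_eq_one_iff] at h
  exact h

theorem factorization_quot [Finite G] (hπ : Function.Surjective π) :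
    (Nat.card H).factorization 2 = (Nat.card G).factorization 2 := by
  have hcard := π.ker.card_mul_index
  rw [Subgroup.index_ker, MonoidHom.range_eq_top.2 hπ, Subgroup.card_top] at hcard
  have hfin : Finite H := Finite.of_surjective π hπ
  have hodd : ¬ 2 ∣ Nat.card π.ker := by
    intro hd
    haveI : Fact (Nat.Prime 2) := ⟨Nat.prime_two⟩
    obtain ⟨z, hz⟩ := exists_prime_orderOf_dvd_card' 2 hd
    have h3 := orderOf_dvd_of_pow_eq_one (hker z (MonoidHom.mem_ker.1 z.2))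
    rw [Subgroup.orderOf_coe, hz] at h3
    omega
  rw [← hcard, Nat.factorization_mul Nat.card_pos.ne' Nat.card_pos.ne', Finsupp.add_apply,
    Nat.factorization_eq_zero_of_not_dvd hodd, zero_add]

theorem mcGroup_quot [Finite G] (hπ : Function.Surjective π) {n r t : ℕ} {X Y : G}
    (h : MCGroup n r t X Y) (hn : 2 ≤ n)
    (hr : r + 1 = 2 ^ n ∨ (3 ≤ n ∧ r + 1 = 2 ^ (n - 1))) : MCGroup n r t (π X) (π Y) := by
  have ho : orderOf (π X) = 2 ^ n := by
    refine Nat.dvd_antisymm (h.order ▸ orderOf_map_dvd π X) ?_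
    rw [← h.order]
    refine orderOf_dvd_of_pow_eq_one ?_
    refine eq_one_of_two_pow π hker (by rw [map_pow, pow_orderOf_eq_one]) (m := n) ?_
    rw [← pow_mul, mul_comm, pow_mul, ← h.order, pow_orderOf_eq_one, one_pow]
  have hrel : π Y * π X * (π Y)⁻¹ = π X ^ r := by
    rw [← map_inv, ← map_mul, ← map_mul, h.rel, map_pow]
  exact ⟨ho, by rw [← map_mul, h.y_sq, map_pow], hrel, not_mem_of_rel hn ho hr hrel,
    (factorization_quot π hker hπ).trans h.v_two⟩

end quotient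

theorem center_cube {q : ℕ} [Fact q.Prime] {z : SpecialLinearGroup (Fin 3) (ZMod q)}
    (hz : QuotientGroup.mk' (Subgroup.center (SpecialLinearGroup (Fin 3) (ZMod q))) z = 1) : z ^ 3 = 1 := by
  obtain ⟨r, hr, he⟩ := Matrix.SpecialLinearGroup.mem_center_iff.1 ((QuotientGroup.eq_one_iff z).1 hz)
  refine Subtype.ext ?_
  rw [Fintype.card_fin] at hr
  rw [Matrix.SpecialLinearGroup.coe_pow, ← he, ← map_pow, hr, map_one]
  rfl

/-- Semidihedral groups: `PSL₃(q)`. -/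
theorem exists_psl3SD (n : ℕ) (hn : 3 ≤ n) :
    ∃ (q : ℕ) (_ : Fact q.Prime) (X Y : ProjectiveSpecialLinearGroup (Fin 3) (ZMod q)), Odd q ∧
      MCGroup n (2 ^ (n - 1) - 1) 0 X Y ∧
      IsConj (X ^ 2 ^ (n - 1)) Y ∧ IsConj (X ^ 2 ^ (n - 2)) (X * Y) := by
  obtain ⟨q, hq, X, Y, hodd, hG, c0, c1⟩ := exists_sl3SD n hn
  let π := QuotientGroup.mk' (Subgroup.center (SpecialLinearGroup (Fin 3) (ZMod q)))
  refine ⟨q, hq, π X, π Y, hodd, mcGroup_quot π (fun z => center_cube) (QuotientGroup.mk'_surjective _)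
    hG (by omega) (Or.inr ⟨hn, Nat.sub_add_cancel Nat.one_le_two_pow⟩), ?_, ?_⟩
  · rw [← map_pow]; exact π.map_isConj c0
  · rw [← map_pow, ← map_mul]; exact π.map_isConj c1

/-- Wreathed groups: `PSL₃(q)`. -/
theorem exists_psl3Wr (k : ℕ) :
    ∃ (q : ℕ) (_ : Fact q.Prime) (f : Wr k →* ProjectiveSpecialLinearGroup (Fin 3) (ZMod q)), Odd q ∧
      WrGroup f ∧ (∃ i j, IsConj (f (R i j)) (f (W 0 0))) ∧
        ∃ g, g * f (R 1 0) * g⁻¹ = f (R 0 1) ∧ g * f (R 0 1) * g⁻¹ = f (R (-1) (-1)) := by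
  obtain ⟨q, hq, f, hodd, hf, ⟨i, j, hc⟩, g, h1, h2⟩ := exists_sl3Wr k
  let π := QuotientGroup.mk' (Subgroup.center (SpecialLinearGroup (Fin 3) (ZMod q)))
  refine ⟨q, hq, π.comp f, hodd, ⟨?_, ?_⟩, ⟨i, j, π.map_isConj hc⟩, π g, ?_, ?_⟩
  · rw [injective_iff_map_eq_one]
    intro x hx
    obtain ⟨m, hm⟩ := Wr.isPGroup x
    refine hf.inj ?_
    rw [map_one]
    exact eq_one_of_two_pow π (fun z => center_cube) hx (m := m) (by rw [← map_pow, hm, map_one])
  · exact (factorization_quot π (fun z => center_cube) (QuotientGroup.mk'_surjective _)).trans hf.v_two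
  · simp only [MonoidHom.comp_apply]; rw [← h1]; simp only [map_mul, map_inv]
  · simp only [MonoidHom.comp_apply]; rw [← h2]; simp only [map_mul, map_inv]

/-- From quaternion to dihedral models by the quotient by the central involution. -/
theorem mcGroup_dihedral {G : Type} [Group G] [Finite G] (Z : Subgroup G) [Z.Normal] {X Y : G} {n : ℕ}
    (hn : 2 ≤ n) (h : MCGroup (n + 1) (2 ^ (n + 1) - 1) (2 ^ n) X Y) (hZ : Z = zpowers (X ^ 2 ^ n)) :
    MCGroup n (2 ^ n - 1) 0 (QuotientGroup.mk' Z X) (QuotientGroup.mk' Z Y) := by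
  have hz2 : orderOf (X ^ 2 ^ n) = 2 := by
    rw [orderOf_pow' X (pow_ne_zero _ two_ne_zero), h.order, Nat.gcd_eq_right (pow_dvd_pow 2 n.le_succ),
      pow_succ, Nat.mul_div_cancel_left _ (Nat.two_pow_pos n)]
  have hker : ∀ a, (QuotientGroup.mk' Z) a = 1 ↔ a ∈ Z := fun a => QuotientGroup.eq_one_iff a
  have hoX : orderOf (QuotientGroup.mk' Z X) = 2 ^ n := by
    obtain ⟨m, rfl⟩ : ∃ m, n = m + 1 := ⟨n - 1, by omega⟩
    refine orderOf_eq_prime_pow (fun hh => ?_) ?_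
    · rw [← map_pow, hker, hZ] at hh
      obtain ⟨i, hi⟩ := mem_zpowers_iff.1 hh
      rw [← zpow_natCast X, ← zpow_natCast X (2 ^ m), ← _root_.zpow_mul, zpow_eq_zpow_iff_modEq, h.order,
        Int.modEq_iff_dvd] at hi
      push_cast at hi
      have h2 : (2 : ℤ) ^ (m + 1) ∣ 2 ^ m := by
        have := dvd_add (dvd_trans (pow_dvd_pow 2 (by omega : m + 1 ≤ m + 1 + 1)) hi) (dvd_mul_right ((2 : ℤ) ^ (m + 1)) i)
        simpa using this
      have := Int.le_of_dvd (by positivity) h2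
      have : (0 : ℤ) < 2 ^ m := by positivity
      rw [pow_succ] at *
      omega
    · rw [← map_pow, hker, hZ]; exact mem_zpowers _
  have hrel : QuotientGroup.mk' Z Y * QuotientGroup.mk' Z X * (QuotientGroup.mk' Z Y)⁻¹ =
      QuotientGroup.mk' Z X ^ (2 ^ n - 1) := by
    rw [← map_inv, ← map_mul, ← map_mul, h.rel, map_pow]
    rw [show 2 ^ (n + 1) - 1 = 2 ^ n + (2 ^ n - 1) by rw [pow_succ]; have := Nat.two_pow_pos n; omega,
      pow_add, ← hoX, pow_orderOf_eq_one, one_mul]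
  refine ⟨hoX, ?_, hrel,
    not_mem_of_rel hn hoX (Or.inl (Nat.sub_add_cancel Nat.one_le_two_pow)) hrel, ?_⟩
  · rw [pow_zero, ← map_mul, h.y_sq, map_pow, ← hoX, pow_orderOf_eq_one]
  · have hcard := Subgroup.card_eq_card_quotient_mul_card_subgroup Z
    have hc2 : Nat.card Z = 2 := by subst hZ; rw [Nat.card_zpowers, hz2]
    rw [hc2] at hcard
    have hv := h.v_two
    rw [hcard, Nat.factorization_mul Nat.card_pos.ne' two_ne_zero, Finsupp.add_apply,
      Nat.Prime.factorization_self Nat.prime_two] at hv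
    omega


/-- Dihedral groups: `PSL₂(q)`. -/
theorem exists_psl2 (n : ℕ) (hn : 2 ≤ n) :
    ∃ (q : ℕ) (_ : Fact q.Prime) (X Y : ProjectiveSpecialLinearGroup (Fin 2) (ZMod q)), Odd q ∧
      q % 8 = 1 ∧ MCGroup n (2 ^ n - 1) 0 X Y ∧
      IsConj (X ^ 2 ^ (n - 1)) Y ∧ IsConj (X ^ 2 ^ (n - 1)) (X * Y) := by
  obtain ⟨q, u, hq, hu, hqe⟩ := exists_prime_sub (n + 1) (by omega)
  have hqf : Fact q.Prime := ⟨hq⟩
  have hq2 : q ≠ 2 := fun h => by
    have : 2 ∣ 2 ^ (n + 1) * u := Dvd.dvd.mul_right (dvd_pow_self 2 (by omega)) u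
    omega
  have hq8 : q % 8 = 1 := by
    have : (8 : ℕ) ∣ 2 ^ (n + 1) := pow_dvd_pow 2 (by omega : 3 ≤ n + 1)
    obtain ⟨w, hw⟩ := this
    rw [hqe, hw, mul_assoc, Nat.mul_add_mod]
  obtain ⟨l, hl⟩ := exists_unit_order (F := ZMod q) (n := n + 1) (by rw [Nat.card_zmod, hqe]; simp)
  obtain ⟨ho, hy, hrel, hwv, hc, hxy⟩ := q_rel (by omega : 2 ≤ n + 1) hl
  have hv : (Nat.card (SpecialLinearGroup (Fin 2) (ZMod q))).factorization 2 = n + 1 + 1 := by
    refine factorization_two_pow (m := q * u * (2 ^ n * u + 1)) ?_ ?_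
    · rw [card_SL_two, Nat.card_zmod, show q - 1 = 2 ^ (n + 1) * u by omega,
        show q + 1 = 2 * (2 ^ n * u + 1) by rw [hqe, pow_succ]; ring]
      ring
    · refine ((hq.eq_two_or_odd'.resolve_left hq2).mul hu).mul ?_
      exact (((Even.pow_of_ne_zero even_two (by omega : n ≠ 0))).mul_right u).add_one
  have hG : MCGroup (n + 1) (2 ^ (n + 1) - 1) (2 ^ n) (sDiag l) (sW : SpecialLinearGroup (Fin 2) (ZMod q)) :=
    ⟨ho, hy, hrel, not_mem_of_rel (by omega) ho (Or.inl (Nat.sub_add_cancel Nat.one_le_two_pow)) hrel, hv⟩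
  have hz : Subgroup.center (SpecialLinearGroup (Fin 2) (ZMod q)) = zpowers (sDiag l ^ 2 ^ n) := by
    refine (Subgroup.eq_of_le_of_card_ge (Subgroup.zpowers_le.2 ?_) ?_).symm
    · refine Subgroup.mem_center_iff.2 fun g => Subtype.ext ?_
      rw [Nat.add_sub_cancel] at hy
      rw [← hy, val_mul, val_mul (sW * sW) g, hwv]
      simp
    · have h1 : orderOf (sDiag l ^ 2 ^ n : SpecialLinearGroup (Fin 2) (ZMod q)) = 2 := by
        rw [orderOf_pow' _ (pow_ne_zero _ two_ne_zero), ho,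
          Nat.gcd_eq_right (pow_dvd_pow 2 n.le_succ), pow_succ, Nat.mul_div_cancel_left _ (Nat.two_pow_pos n)]
      rw [Nat.card_zpowers, h1, Cfsg.Agent.H6.card_center_sl2 (q := q) (ZMod.card q)]
      exact Nat.gcd_le_left _ two_pos
  let π := QuotientGroup.mk' (Subgroup.center (SpecialLinearGroup (Fin 2) (ZMod q)))
  have h0 := π.map_isConj (sl2_isConj_sq_neg_one (two_ne_zero_zmod hq2) hc hwv)
  have h1 := π.map_isConj (sl2_isConj_sq_neg_one (two_ne_zero_zmod hq2) hc hxy)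
  rw [map_pow, show n + 1 - 2 = n - 1 by omega] at h0 h1
  rw [map_mul] at h1
  exact ⟨q, hqf, π (sDiag l), π sW, hq.eq_two_or_odd'.resolve_left hq2, hq8,
    mcGroup_dihedral _ hn hG hz, h0, h1⟩

end Cfsg.Agent.H20.RankTwo
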