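import Cfsg.Agent.H20.RankTwo.SimpleFacts
import Cfsg.Agent.H93.TwoEssential.Shapes
import Cfsg.Agent.H93.TwoEssential.WreathedModels

/-!
In a simple system over a dihedral, semidihedral or wreathed 2-group every candidate is automised.
-/

set_option autoImplicit false

universe u

namespace Cfsg.Agent.H20.RankTwo

open Cfsg Cfsg.FusionSystem Cfsg.Agent Cfsg.Agent.H93.TwoEss Cfsg.Agent.H49 Cfsg.Agent.H49.Wr

variable {Ω : Type u} [Group Ω] {S : Subgroup Ω} {F : FusionSystem S}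

theorem auto_cand_of_simple [Finite S] {x y : Ω} {n r t : ℕ} (h : MC S x y n r t) (hs : F.IsSimple 2)
    (hna : ¬ ∀ a ∈ S, ∀ b ∈ S, a * b = b * a) (j : ℤ) : Auto F (h.cand j) := by
  haveI : Fact (Nat.Prime 2) := ⟨Nat.prime_two⟩
  by_contra hj
  obtain ⟨δ, hδu, hδw⟩ :=
    h.exists_delta (Multiplicative.ofAdd 1) (Multiplicative.ofAdd (j + 1 : ℤ))
  have hone : ∀ i : ℤ, (Multiplicative.ofAdd (1 : ZMod 2)) ^ i =
      Multiplicative.ofAdd ((i : ℤ) : ZMod 2) := fun i => by rw [← ofAdd_zsmul, zsmul_one]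
  have key : δ ⟨x ^ j * y, h.u_mem j⟩ = 1 := by
    refine eq_one_of_invariant h.isPGroup hs hna δ (fun {P φ} hφ a => ?_) _
    refine hom_invariant h.isPGroup h.isPGroup_mulAut hs.1 δ (fun E hE hne hcen haE α _ e => ?_) hφ a
    obtain ⟨i, rfl⟩ := h.classify hE hne hcen haE.mulAut
    have hij : ¬ (2 : ℤ) ∣ j - i := fun hd => hj ((h.auto_congr hd).2 haE)
    have hker : h.cand i ≤ δ.ker.map S.subtype := by
      rw [MC.cand, Subgroup.closure_le]
      rintro c (rfl | rfl)
      · exact ⟨⟨h.w i, h.zp_le (h.w_mem_zpowers i)⟩, hδw i, rfl⟩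
      · refine ⟨⟨x ^ i * y, h.u_mem i⟩, ?_, rfl⟩
        rw [SetLike.mem_coe, MonoidHom.mem_ker, hδu, hone, ← ofAdd_add, ofAdd_eq_one, ← Int.cast_add,
          ZMod.intCast_zmod_eq_zero_iff_dvd]
        omega
    have hone' : ∀ c : h.cand i, δ ⟨_, hE c.2⟩ = 1 := fun c => by
      obtain ⟨d, hd, hde⟩ := hker c.2
      rw [show (⟨(c : Ω), hE c.2⟩ : S) = d from Subtype.ext hde.symm]
      exact hd
    rw [hone', hone']
  rw [hδu, hone, ← ofAdd_add, ofAdd_eq_one, ← Int.cast_add, ZMod.intCast_zmod_eq_zero_iff_dvd] at key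
  omega

/-- The parity of the exponents of the two generators of the base. -/
def par (k : ℕ) : Wr k →* Multiplicative (ZMod 2) :=
  MonoidHom.mk'
    (fun v => Multiplicative.ofAdd
      (ZMod.castHom (dvd_pow_self 2 (Nat.succ_ne_zero (k + 1))) (ZMod 2) (v.i + v.j)))
    fun a b => by
      rw [← ofAdd_add, ← map_add]
      congr 2
      show a.i + cond a.e b.j b.i + (a.j + cond a.e b.i b.j) = a.i + a.j + (b.i + b.j)
      cases a.e <;> simp only [cond_true, cond_false] <;> ring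

theorem par_vee {k : ℕ} {a : ZMod (2 ^ (k + 1 + 1))} {v : Wr k} (hv : v ∈ vee a) : par k v = 1 := by
  rw [Wr.mem_vee] at hv
  show Multiplicative.ofAdd _ = 1
  rw [ofAdd_eq_one, map_add]
  set φ := ZMod.castHom (dvd_pow_self 2 (Nat.succ_ne_zero (k + 1))) (ZMod 2)
  have htwo : ∀ z : ZMod 2, z + z = 0 := by decide
  have hc : φ (cond v.e (2 * a) 0) = 0 := by
    cases v.e
    · simp
    · simp [two_mul, htwo]
  have hd : φ (v.i - v.j - cond v.e (2 * a) 0) = 0 := by
    rcases ZTwo.two_mul_eq_zero_iff.1 hv with h | h <;> rw [h]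
    · exact map_zero φ
    · rw [ZTwo.half, map_natCast, ZMod.natCast_eq_zero_iff]
      exact dvd_pow_self 2 (Nat.succ_ne_zero k)
  rw [map_sub, map_sub, hc, sub_zero, sub_eq_zero] at hd
  rw [hd]; exact htwo _

theorem auto_wreathed_of_simple [Finite S] {k : ℕ} (e : Wr k ≃* S) (hs : F.IsSimple 2)
    (hna : ¬ ∀ a ∈ S, ∀ b ∈ S, a * b = b * a) : Auto F (WR.imV e 0) ∧ Auto F (WR.imA e) := by
  haveI : Fact (Nat.Prime 2) := ⟨Nat.prime_two⟩
  have hkill : ∀ (δ₀ : Wr k →* Multiplicative (ZMod 2)) (X : Subgroup (Wr k)),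
      (∀ v ∈ X, δ₀ v = 1) → ∀ c : ↥(H93.TwoEss.WR.im e X),
        δ₀.comp e.symm.toMonoidHom ⟨_, H93.TwoEss.WR.im_le e X c.2⟩ = 1 := by
    intro δ₀ X hX c
    obtain ⟨v, hv, hvc⟩ := c.2
    rw [show (⟨(c : Ω), H93.TwoEss.WR.im_le e X c.2⟩ : S) = e v from Subtype.ext hvc.symm]
    show δ₀ (e.symm (e v)) = 1
    rw [e.symm_apply_apply]; exact hX v hv
  refine ⟨?_, ?_⟩
  · by_contra hV
    have key := eq_one_of_invariant (H93.TwoEss.WR.isPGroup e) hs hna
      ((psiE k).comp e.symm.toMonoidHom) (fun {P φ} hφ a =>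
        hom_invariant (H93.TwoEss.WR.isPGroup e) (H93.TwoEss.WR.isPGroup_mulAut e) hs.1
          ((psiE k).comp e.symm.toMonoidHom) (fun E hE _ hcen haE α _ x => by
            rcases H93.TwoEss.WR.classify e hE hcen haE.mulAut with rfl | ⟨b, rfl⟩
            · exact (hkill _ _ (fun v hv => hv) (α x)).trans (hkill _ _ (fun v hv => hv) x).symm
            · exact absurd ((H93.TwoEss.WR.auto_imV e 0 b).1 haE) hV) hφ a) (e (W 0 0))
    have h1 : (W 0 0 : Wr k) ∈ (psiE k).ker := by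
      simpa [MonoidHom.mem_ker] using key
    exact absurd (Wr.mem_ker_E.1 h1) (by simp [W])
  · by_contra hA
    have key := eq_one_of_invariant (H93.TwoEss.WR.isPGroup e) hs hna
      ((par k).comp e.symm.toMonoidHom) (fun {P φ} hφ a =>
        hom_invariant (H93.TwoEss.WR.isPGroup e) (H93.TwoEss.WR.isPGroup_mulAut e) hs.1
          ((par k).comp e.symm.toMonoidHom) (fun E hE _ hcen haE α _ x => by
            rcases H93.TwoEss.WR.classify e hE hcen haE.mulAut with rfl | ⟨b, rfl⟩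
            · exact absurd haE hA
            · exact (hkill _ _ (fun v hv => par_vee hv) (α x)).trans
                (hkill _ _ (fun v hv => par_vee hv) x).symm) hφ a) (e (R 1 0))
    simp only [MonoidHom.comp_apply, MulEquiv.coe_toMonoidHom, MulEquiv.symm_apply_apply, par,
      MonoidHom.mk'_apply, R, ofAdd_eq_one, add_zero, map_one] at key
    exact one_ne_zero key

end Cfsg.Agent.H20.RankTwo
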